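import Mathlib

/-!
# Vectors of polynomials under change of coefficients; bounds by Noetherian induction
-/

set_option autoImplicit false
universe u

open MvPolynomial

namespace Groth.Agent.Lib.RadBound

variable {N r : ℕ} {A B : Type u} [CommRing A] [CommRing B]

/-- Vectors of polynomials. -/
abbrev Vec (N r : ℕ) (A : Type u) [CommRing A] : Type u := Fin r → MvPolynomial (Fin N) A

/-- Change of coefficients. -/
noncomputable def vmap (χ : A →+* B) : Vec N r A →ₛₗ[χ] Vec N r B where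
  toFun v i := MvPolynomial.map χ (v i)
  map_add' v w := funext fun i => by simp
  map_smul' c v := funext fun i => by simp [MvPolynomial.smul_eq_C_mul]

@[simp] theorem vmap_apply (χ : A →+* B) (v : Vec N r A) (i : Fin r) :
    vmap χ v i = MvPolynomial.map χ (v i) := rfl

/-- The monomial basis. -/
noncomputable def vbasis (N r : ℕ) (A : Type u) [CommRing A] :
    Module.Basis (Σ _ : Fin r, Fin N →₀ ℕ) A (Vec N r A) :=
  Pi.basis fun _ : Fin r => MvPolynomial.basisMonomials (Fin N) A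

theorem vmap_vbasis (χ : A →+* B) (i : Σ _ : Fin r, Fin N →₀ ℕ) :
    vmap χ (vbasis N r A i) = vbasis N r B i := by
  funext l
  rw [vmap_apply, vbasis, vbasis, Pi.basis_apply, Pi.basis_apply]
  by_cases h : l = i.1
  · subst h; simp [MvPolynomial.coe_basisMonomials]
  · simp [Pi.single_eq_of_ne h]

/-- Extension of a linear map along a change of coefficients. -/
noncomputable def ext' (χ : A →+* B) {W : Type u} [AddCommGroup W] [Module B W] {W₀ : Type u}
    [AddCommGroup W₀] [Module A W₀] (g : W₀ →ₛₗ[χ] W) (h : Vec N r A →ₗ[A] W₀) : Vec N r B →ₗ[B] W :=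
  (vbasis N r B).constr B fun i => g (h (vbasis N r A i))

theorem ext'_vmap (χ : A →+* B) {W : Type u} [AddCommGroup W] [Module B W] {W₀ : Type u}
    [AddCommGroup W₀] [Module A W₀] (g : W₀ →ₛₗ[χ] W) (h : Vec N r A →ₗ[A] W₀) (v : Vec N r A) :
    ext' χ g h (vmap χ v) = g (h v) := by
  have : (ext' χ g h).comp (vmap χ) = g.comp h :=
    (vbasis N r A).ext fun i => by
      show ext' χ g h (vmap χ (vbasis N r A i)) = g (h (vbasis N r A i))
      rw [vmap_vbasis, ext', Module.Basis.constr_basis]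
  exact LinearMap.congr_fun this v

theorem vmap_mulVec (χ : A →+* B) {s : ℕ} (M : Matrix (Fin r) (Fin s) (MvPolynomial (Fin N) A))
    (v : Vec N s A) :
    vmap χ (M.mulVec v) = (M.map (MvPolynomial.map χ)).mulVec (vmap χ v) :=
  funext fun i => RingHom.map_mulVec (MvPolynomial.map χ) M v i

theorem vmap_vmap {C : Type u} [CommRing C] (χ : A →+* B) (ψ : B →+* C) (v : Vec N r A) :
    vmap ψ (vmap χ v) = vmap (ψ.comp χ) v :=
  funext fun i => MvPolynomial.map_map χ ψ (v i)

theorem totalDegree_map_le {σ : Type*} (χ : A →+* B) (p : MvPolynomial σ A) :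
    (MvPolynomial.map χ p).totalDegree ≤ p.totalDegree :=
  Finset.sup_mono (MvPolynomial.support_map_subset _ _)

/-- Noetherian induction on the closed subsets of the parameter space. -/
theorem exists_bound {A₀ : Type u} [CommRing A₀] [IsNoetherianRing A₀]
    (P : ℕ → ∀ (k : Type u) [Field k], (A₀ →+* k) → Prop)
    (mono : ∀ R R', R ≤ R' → ∀ (k : Type u) [Field k] (χ : A₀ →+* k), P R k χ → P R' k χ)
    (gen : ∀ (Q : Ideal A₀) [Q.IsPrime], ∃ a : A₀ ⧸ Q, a ≠ 0 ∧ ∃ R, ∀ (k : Type u) [Field k]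
      (χ : A₀ ⧸ Q →+* k), χ a ≠ 0 → P R k (χ.comp (Ideal.Quotient.mk Q))) :
    ∃ R, ∀ (k : Type u) [Field k] (χ : A₀ →+* k), P R k χ := by
  suffices ∀ Q : Ideal A₀, ∃ R, ∀ (k : Type u) [Field k] (χ : A₀ →+* k), Q ≤ RingHom.ker χ → P R k χ by
    obtain ⟨R, hR⟩ := this ⊥
    exact ⟨R, fun k _ χ => hR k χ bot_le⟩
  intro Q
  induction Q using WellFoundedGT.induction with
  | _ Q ih =>
    by_cases htop : Q = ⊤
    · refine ⟨0, fun k _ χ hQ => absurd ?_ (RingHom.ker_ne_top χ)⟩
      exact top_le_iff.1 (htop ▸ hQ)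
    by_cases hQ : Q.IsPrime
    · obtain ⟨a, ha, R, hR⟩ := gen Q
      obtain ⟨a, rfl⟩ := Ideal.Quotient.mk_surjective a
      have haQ : a ∉ Q := fun h => ha (Ideal.Quotient.eq_zero_iff_mem.2 h)
      obtain ⟨R', hR'⟩ := ih (Q ⊔ Ideal.span {a}) (lt_of_le_of_ne le_sup_left fun e => haQ
        (e ▸ Ideal.mem_sup_right (Ideal.mem_span_singleton_self a)))
      refine ⟨max R R', fun k _ χ hQ => ?_⟩
      by_cases hχ : χ a = 0
      · exact mono _ _ (le_max_right _ _) k χ
          (hR' k χ (sup_le hQ (by rwa [Ideal.span_le, Set.singleton_subset_iff])))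
      · have h := hR k (Ideal.Quotient.lift Q χ fun x hx => hQ hx) hχ
        exact mono _ _ (le_max_left _ _) k χ h
    · obtain ⟨x, hx, y, hy, hxy⟩ : ∃ x ∉ Q, ∃ y ∉ Q, x * y ∈ Q := by
        by_contra h
        push Not at h
        exact hQ ⟨htop, fun {x y} hxy => or_iff_not_imp_left.2 fun hx => by
          by_contra hy; exact h x hx y hy hxy⟩
      obtain ⟨R₁, h₁⟩ := ih (Q ⊔ Ideal.span {x}) (lt_of_le_of_ne le_sup_left fun e => hx
        (e ▸ Ideal.mem_sup_right (Ideal.mem_span_singleton_self x)))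
      obtain ⟨R₂, h₂⟩ := ih (Q ⊔ Ideal.span {y}) (lt_of_le_of_ne le_sup_left fun e => hy
        (e ▸ Ideal.mem_sup_right (Ideal.mem_span_singleton_self y)))
      refine ⟨max R₁ R₂, fun k _ χ hQ => ?_⟩
      have h0 : χ x * χ y = 0 := by rw [← map_mul]; exact hQ hxy
      rcases mul_eq_zero.1 h0 with h | h
      · exact mono _ _ (le_max_left _ _) k χ
          (h₁ k χ (sup_le hQ (by rwa [Ideal.span_le, Set.singleton_subset_iff])))
      · exact mono _ _ (le_max_right _ _) k χ
          (h₂ k χ (sup_le hQ (by rwa [Ideal.span_le, Set.singleton_subset_iff])))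

/-- Monomials of degree at most `d`. -/
noncomputable def mons (N d : ℕ) : Finset (Fin N →₀ ℕ) :=
  (Finsupp.finite_of_degree_le d).toFinset

theorem mem_mons {d : ℕ} {μ : Fin N →₀ ℕ} : μ ∈ mons N d ↔ μ.degree ≤ d :=
  (Finsupp.finite_of_degree_le d).mem_toFinset

theorem eq_sum_mons {d : ℕ} {p : MvPolynomial (Fin N) A} (hp : p.totalDegree ≤ d) :
    p = ∑ μ ∈ mons N d, MvPolynomial.monomial μ (p.coeff μ) := by
  conv_lhs => rw [p.as_sum]
  refine Finset.sum_subset (fun μ hμ => mem_mons.2 ?_) fun μ _ hμ => by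
    rw [MvPolynomial.notMem_support_iff.1 hμ, map_zero]
  exact (MvPolynomial.le_totalDegree hμ).trans hp

theorem totalDegree_sum_mons_le {d : ℕ} (c : (Fin N →₀ ℕ) → A) :
    (∑ μ ∈ mons N d, MvPolynomial.monomial μ (c μ)).totalDegree ≤ d :=
  MvPolynomial.totalDegree_finsetSum_le fun μ hμ =>
    (MvPolynomial.totalDegree_monomial_le μ (c μ)).trans (mem_mons.1 hμ)

end Groth.Agent.Lib.RadBound
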