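import Mathlib

/-!
# Extending field valued points along integral extensions, with bounded degree
-/

set_option autoImplicit false
universe u

namespace Groth.Agent.Lib.RadBound

/-- A field valued point of `A` extends to an integral extension. -/
theorem exists_extension {A A' k : Type u} [CommRing A] [CommRing A'] [Algebra A A']
    [Algebra.IsIntegral A A'] (hinj : Function.Injective (algebraMap A A')) [IsDomain A'] [Field k]
    (χ : A →+* k) :
    ∃ ψ : A' →+* AlgebraicClosure k, ∀ x, ψ (algebraMap A A' x) = algebraMap k _ (χ x) := by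
  let p := RingHom.ker χ
  have : p.IsPrime := RingHom.ker_isPrime χ
  obtain ⟨Q, hQ, hQp⟩ := Ideal.exists_ideal_over_prime_of_isIntegral_of_isDomain (S := A') p
    (fun x hx => by
      have : x = 0 := hinj (by rw [map_zero]; exact hx)
      rw [this]; exact zero_mem _)
  have : Q.LiesOver p := ⟨hQp.symm⟩
  let Ω := AlgebraicClosure k
  let f : A ⧸ p →+* Ω := (algebraMap k Ω).comp (Ideal.Quotient.lift p χ fun x hx => hx)
  let : Algebra (A ⧸ p) Ω := f.toAlgebra
  have hf : Function.Injective f := (algebraMap k Ω).injective.comp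
    (RingHom.lift_injective_of_ker_le_ideal p (fun x hx => hx) le_rfl)
  have : FaithfulSMul (A ⧸ p) Ω := (faithfulSMul_iff_algebraMap_injective _ _).2 hf
  have hq : Function.Injective (algebraMap (A ⧸ p) (A' ⧸ Q)) := by
    rw [injective_iff_map_eq_zero]
    intro x hx
    obtain ⟨x, rfl⟩ := Ideal.Quotient.mk_surjective x
    rw [Ideal.Quotient.algebraMap_mk_of_liesOver, Ideal.Quotient.eq_zero_iff_mem] at hx
    exact Ideal.Quotient.eq_zero_iff_mem.2 (hQp ▸ hx)
  have : Module.IsTorsionFree (A ⧸ p) (A' ⧸ Q) := Module.isTorsionFree_iff_algebraMap_injective.2 hq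
  have : Module.IsTorsionFree (A ⧸ p) Ω := Module.isTorsionFree_iff_algebraMap_injective.2 hf
  let g : A' ⧸ Q →ₐ[A ⧸ p] Ω := IsAlgClosed.lift
  refine ⟨g.toRingHom.comp (Ideal.Quotient.mk Q), fun x => ?_⟩
  exact g.commutes (Ideal.Quotient.mk p x)

/-- A field valued point of `A` extends to a finite extension with values in a field of bounded
degree. -/
theorem exists_extension_finite {A A' : Type u} [CommRing A] [CommRing A'] [Algebra A A']
    [Algebra.IsIntegral A A'] (hinj : Function.Injective (algebraMap A A')) [IsDomain A']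
    {r : ℕ} (m : Fin r → A') (hm : Submodule.span A (Set.range m) = ⊤) {k : Type u} [Field k]
    (χ : A →+* k) :
    ∃ (F : IntermediateField k (AlgebraicClosure k)) (ψ : A' →+* F), FiniteDimensional k F ∧
      Module.finrank k F ≤ r ∧ ∀ x, ψ (algebraMap A A' x) = algebraMap k F (χ x) := by
  classical
  obtain ⟨ψ, hψ⟩ := exists_extension hinj χ
  let Ω := AlgebraicClosure k
  let F := IntermediateField.adjoin k (Set.range ψ)
  have hspan : (F.toSubalgebra.toSubmodule : Submodule k Ω) ≤
      Submodule.span k (Set.range fun l => ψ (m l)) := by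
    rw [show F.toSubalgebra = Algebra.adjoin k (Set.range ψ) from
      IntermediateField.adjoin_toSubalgebra_of_isAlgebraic (fun x _ => Algebra.IsAlgebraic.isAlgebraic x)]
    rw [Algebra.adjoin_eq_span, Submodule.span_le]
    intro x hx
    have hx' : x ∈ Set.range ψ := by
      have : Submonoid.closure (Set.range ψ) ≤ MonoidHom.mrange ψ.toMonoidHom :=
        Submonoid.closure_le.2 fun y hy => hy
      exact this hx
    obtain ⟨y, rfl⟩ := hx'
    obtain ⟨c, hc⟩ := Submodule.mem_span_range_iff_exists_fun A |>.1 (hm ▸ Submodule.mem_top : y ∈ _)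
    rw [← hc, map_sum]
    refine Submodule.sum_mem _ fun l _ => ?_
    rw [Algebra.smul_def, map_mul, hψ, ← Algebra.smul_def]
    exact Submodule.smul_mem _ _ (Submodule.subset_span ⟨l, rfl⟩)
  have : Module.Finite k (Submodule.span k (Set.range fun l => ψ (m l))) :=
    Module.Finite.span_of_finite k (Set.finite_range _)
  refine ⟨F, ψ.codRestrict F fun y => IntermediateField.subset_adjoin k _ ⟨y, rfl⟩, ?_, ?_,
    fun x => Subtype.ext (hψ x)⟩
  · exact Module.Finite.of_injective (Submodule.inclusion hspan) (Submodule.inclusion_injective hspan)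
  · calc Module.finrank k F ≤ Module.finrank k (Submodule.span k (Set.range fun l => ψ (m l))) :=
          LinearMap.finrank_le_finrank_of_injective (f := Submodule.inclusion hspan) (Submodule.inclusion_injective hspan)
      _ ≤ Fintype.card (Fin r) := finrank_range_le_card _
      _ = r := Fintype.card_fin r

end Groth.Agent.Lib.RadBound
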