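import Groth.Agent.Lib.RadBound.Basic
import Groth.Agent.H47.GenericFreeDomain

/-!
# Uniform degree bounds for kernels of polynomial matrices
-/

set_option autoImplicit false
universe u

open MvPolynomial TensorProduct

namespace Groth.Agent.Lib.RadBound

variable {N r s : ℕ}

/-- Over the generic points of the parameters the kernel specialises. -/
theorem exists_kernel_generic (A : Type u) [CommRing A] [IsDomain A] [IsNoetherianRing A]
    (M : Matrix (Fin r) (Fin s) (MvPolynomial (Fin N) A)) :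
    ∃ a : A, a ≠ 0 ∧ ∃ R : ℕ, ∀ (k : Type u) [Field k] (χ : A →+* k), χ a ≠ 0 →
      ∀ y : Vec N s k, (M.map (MvPolynomial.map χ)).mulVec y = 0 →
        y ∈ Submodule.span (MvPolynomial (Fin N) k)
          {v | (M.map (MvPolynomial.map χ)).mulVec v = 0 ∧ ∀ i, (v i).totalDegree ≤ R} := by
  classical
  let B := MvPolynomial (Fin N) A
  let L : Vec N s A →ₗ[B] Vec N r A := Matrix.mulVecLin M
  let C := Vec N r A ⧸ LinearMap.range L
  obtain ⟨a, ha, hfree, -, -, -⟩ :=
    H47.GenericFreeDomain.generic_freeness (R := A) (S := B) (M := C)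
  let A₁ := Localization.Away a
  let ι : A →+* A₁ := algebraMap A A₁
  let B₁ := MvPolynomial (Fin N) A₁
  let M₁ : Matrix (Fin r) (Fin s) B₁ := M.map (MvPolynomial.map ι)
  let L₁ : Vec N s A₁ →ₗ[A₁] Vec N r A₁ := (Matrix.mulVecLin M₁).restrictScalars A₁
  -- the cokernel of the localised matrix is free
  let cls : Vec N r A →ₛₗ[ι] A₁ ⊗[A] C :=
    { toFun := fun z => (1 : A₁) ⊗ₜ[A] (Submodule.Quotient.mk z : C)
      map_add' := fun x y => by rw [Submodule.Quotient.mk_add, TensorProduct.tmul_add]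
      map_smul' := fun c x => by
        rw [Submodule.Quotient.mk_smul, TensorProduct.tmul_smul]
        exact (algebraMap_smul A₁ c _).symm }
  let Ψ : Vec N r A₁ →ₗ[A₁] A₁ ⊗[A] C := ext' ι cls LinearMap.id
  have hΨ : ∀ z, Ψ (vmap ι z) = (1 : A₁) ⊗ₜ[A] (Submodule.Quotient.mk z : C) := fun z =>
    ext'_vmap ι cls LinearMap.id z
  have hcommute : ∀ v, L₁ (vmap ι v) = vmap ι (L v) := fun v => (vmap_mulVec ι M v).symm
  have hle : LinearMap.range L₁ ≤ LinearMap.ker Ψ := by
    rw [LinearMap.range_le_ker_iff]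
    refine (vbasis N s A₁).ext fun i => ?_
    rw [LinearMap.comp_apply, ← vmap_vbasis ι, hcommute, hΨ, LinearMap.zero_apply,
      (Submodule.Quotient.mk_eq_zero _).2 (LinearMap.mem_range_self L _), TensorProduct.tmul_zero]
  let Ψ' := (LinearMap.range L₁).liftQ Ψ hle
  let Φ₀ : C →ₗ[A] Vec N r A₁ ⧸ LinearMap.range L₁ :=
    { toFun := Quotient.lift (fun z => (Submodule.Quotient.mk (vmap ι z) : Vec N r A₁ ⧸ LinearMap.range L₁))
        fun x y hxy => by
          obtain ⟨v, hv⟩ := (Submodule.quotientRel_def _).1 hxy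
          refine (Submodule.Quotient.eq _).2 ⟨vmap ι v, ?_⟩
          rw [hcommute, hv, map_sub]
      map_add' := fun x y => by
        refine Submodule.Quotient.induction_on _ x fun x => Submodule.Quotient.induction_on _ y fun y => ?_
        show Submodule.Quotient.mk (vmap ι (x + y)) = _
        rw [map_add, Submodule.Quotient.mk_add]
        rfl
      map_smul' := fun c x => by
        refine Submodule.Quotient.induction_on _ x fun x => ?_
        show Submodule.Quotient.mk (vmap ι (c • x)) = _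
        rw [LinearMap.map_smulₛₗ, Submodule.Quotient.mk_smul, RingHom.id_apply]
        exact algebraMap_smul A₁ c _ }
  let Φ := LinearMap.liftBaseChange A₁ Φ₀
  have h1 : Φ ∘ₗ Ψ' = LinearMap.id := by
    refine Submodule.linearMap_qext _ ((vbasis N r A₁).ext fun i => ?_)
    show Φ (Ψ (vbasis N r A₁ i)) = Submodule.Quotient.mk (vbasis N r A₁ i)
    rw [← vmap_vbasis ι, hΨ, LinearMap.liftBaseChange_tmul, one_smul]
    rfl
  have h2 : Ψ' ∘ₗ Φ = LinearMap.id := by
    refine LinearMap.ext fun x => ?_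
    induction x using TensorProduct.induction_on with
    | zero => simp
    | add x y hx hy => rw [map_add, map_add, hx, hy]
    | tmul c z =>
      refine Submodule.Quotient.induction_on _ z fun z => ?_
      rw [LinearMap.comp_apply, LinearMap.liftBaseChange_tmul, map_smul]
      show c • Ψ (vmap ι z) = _
      rw [hΨ, TensorProduct.smul_tmul', smul_eq_mul, mul_one]
      rfl
  let e : (Vec N r A₁ ⧸ LinearMap.range L₁) ≃ₗ[A₁] A₁ ⊗[A] C := LinearEquiv.ofLinearMap Ψ' Φ h2 h1
  have : Module.Free A₁ (Vec N r A₁ ⧸ LinearMap.range L₁) := Module.Free.of_equiv e.symm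
  -- split
  obtain ⟨sec, hsec⟩ := Module.projective_lifting_property (LinearMap.range L₁).mkQ LinearMap.id
    (LinearMap.range L₁).mkQ_surjective
  have hproj : ∀ z, z - sec ((LinearMap.range L₁).mkQ z) ∈ LinearMap.range L₁ := fun z => by
    refine (Submodule.Quotient.mk_eq_zero _).1 ?_
    rw [Submodule.Quotient.mk_sub, sub_eq_zero]
    exact (LinearMap.congr_fun hsec ((LinearMap.range L₁).mkQ z)).symm
  let pr : Vec N r A₁ →ₗ[A₁] LinearMap.range L₁ :=
    LinearMap.codRestrict _ (LinearMap.id - sec ∘ₗ (LinearMap.range L₁).mkQ) hproj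
  have hproj2 : ∀ z ∈ LinearMap.range L₁, (pr z : Vec N r A₁) = z := fun z hz => by
    simp only [pr, LinearMap.codRestrict_apply, LinearMap.sub_apply, LinearMap.id_apply,
      LinearMap.comp_apply, Submodule.mkQ_apply, (Submodule.Quotient.mk_eq_zero _).2 hz, map_zero, sub_zero]
  have : Module.Projective A₁ (LinearMap.range L₁) :=
    Module.Projective.of_split (LinearMap.range L₁).subtype pr
      (LinearMap.ext fun z => Subtype.ext (hproj2 z z.2))
  obtain ⟨σ, hσ⟩ := Module.projective_lifting_property L₁.rangeRestrict LinearMap.id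
    L₁.surjective_rangeRestrict
  let h : Vec N r A₁ →ₗ[A₁] Vec N s A₁ := σ ∘ₗ pr
  have hker : ∀ v, L₁ (v - h (L₁ v)) = 0 := fun v => by
    have := congrArg Subtype.val (LinearMap.congr_fun hσ (pr (L₁ v)))
    rw [map_sub, sub_eq_zero]
    exact ((hproj2 _ (LinearMap.mem_range_self _ _)).symm.trans this.symm)
  let K₁ : Submodule B₁ (Vec N s A₁) := LinearMap.ker (Matrix.mulVecLin M₁)
  obtain ⟨V, hV⟩ : K₁.FG := IsNoetherian.noetherian K₁
  refine ⟨a, ha, V.sup fun v => Finset.univ.sup fun i => (v i).totalDegree, fun k _ χ hχ y hy => ?_⟩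
  let χ₁ : A₁ →+* k := IsLocalization.Away.lift (S := A₁) a (isUnit_iff_ne_zero.2 hχ)
  have hχ₁ : χ₁.comp ι = χ := IsLocalization.Away.lift_comp _ _
  have hMk : M₁.map (MvPolynomial.map χ₁) = M.map (MvPolynomial.map χ) := by
    ext i j : 1
    simp only [M₁, Matrix.map_apply, MvPolynomial.map_map, hχ₁]
  set Mk := M.map (MvPolynomial.map χ) with hMk'
  set S := {v : Vec N s k | Mk.mulVec v = 0 ∧ ∀ i, (v i).totalDegree ≤
    V.sup fun v => Finset.univ.sup fun i => (v i).totalDegree}
  have hS : ∀ w : Vec N s A₁, L₁ w = 0 → vmap χ₁ w ∈ Submodule.span (MvPolynomial (Fin N) k) S := by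
    intro w hw
    have hwK : w ∈ Submodule.span B₁ (V : Set (Vec N s A₁)) := by rw [hV]; exact hw
    induction hwK using Submodule.span_induction with
    | mem x hx =>
      refine Submodule.subset_span ⟨?_, fun i => ?_⟩
      · have hx0 : M₁.mulVec x = 0 := (hV ▸ Submodule.subset_span hx : x ∈ K₁)
        rw [← hMk, ← vmap_mulVec, hx0, map_zero]
      · exact (totalDegree_map_le χ₁ (x i)).trans
          ((Finset.le_sup (f := fun i => (x i).totalDegree) (Finset.mem_univ i)).trans
            (Finset.le_sup (f := fun v => Finset.univ.sup fun i => (v i).totalDegree) hx))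
    | zero => rw [map_zero]; exact zero_mem _
    | add x y hxm hym hx hy =>
      rw [map_add]
      exact add_mem (hx (LinearMap.mem_ker.1 (hV ▸ hxm : x ∈ K₁)))
        (hy (LinearMap.mem_ker.1 (hV ▸ hym : y ∈ K₁)))
    | smul c x hxm hx =>
      have : vmap χ₁ (c • x) = MvPolynomial.map χ₁ c • vmap χ₁ x := funext fun i => by simp
      rw [this]
      exact Submodule.smul_mem _ _ (hx (LinearMap.mem_ker.1 (hV ▸ hxm : x ∈ K₁)))
  let Q : Vec N s k →ₗ[k] Vec N s k := ext' χ₁ (vmap χ₁) (LinearMap.id - h ∘ₗ L₁)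
  let H : Vec N r k →ₗ[k] Vec N s k := ext' χ₁ (vmap χ₁) h
  let Lk : Vec N s k →ₗ[k] Vec N r k := (Matrix.mulVecLin Mk).restrictScalars k
  have hsplit : (LinearMap.id : Vec N s k →ₗ[k] Vec N s k) = Q + H ∘ₗ Lk :=
    (vbasis N s k).ext fun i => by
      have hL : Lk (vmap χ₁ (vbasis N s A₁ i)) = vmap χ₁ (L₁ (vbasis N s A₁ i)) := by
        show Mk.mulVec _ = vmap χ₁ (M₁.mulVec _)
        rw [vmap_mulVec, hMk]
      rw [← vmap_vbasis χ₁]
      show vmap χ₁ (vbasis N s A₁ i) = Q (vmap χ₁ (vbasis N s A₁ i)) + H (Lk (vmap χ₁ (vbasis N s A₁ i)))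
      rw [hL, ext'_vmap, ext'_vmap, ← map_add]
      congr 1
      show _ = (vbasis N s A₁ i - h (L₁ (vbasis N s A₁ i))) + h (L₁ (vbasis N s A₁ i))
      rw [sub_add_cancel]
  have hy' : y = Q y := by
    have := LinearMap.congr_fun hsplit y
    rw [LinearMap.add_apply, LinearMap.comp_apply, show Lk y = 0 from hy, map_zero, add_zero] at this
    exact this
  have hQ : LinearMap.range Q ≤ (Submodule.span (MvPolynomial (Fin N) k) S).restrictScalars k := by
    simp only [Q, ext']
    rw [Module.Basis.constr_range, Submodule.span_le]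
    rintro _ ⟨i, rfl⟩
    exact hS _ (hker _)
  rw [hy']
  exact hQ (LinearMap.mem_range_self Q y)

/-- Kernels of polynomial matrices of bounded degree are generated in bounded degree. -/
theorem exists_kernel_bound (N r s d : ℕ) :
    ∃ R : ℕ, ∀ (k : Type u) [Field k] (M : Matrix (Fin r) (Fin s) (MvPolynomial (Fin N) k)),
      (∀ i j, (M i j).totalDegree ≤ d) → ∀ y : Vec N s k, M.mulVec y = 0 →
        y ∈ Submodule.span (MvPolynomial (Fin N) k)
          {v | M.mulVec v = 0 ∧ ∀ i, (v i).totalDegree ≤ R} := by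
  classical
  let Idx := Fin r × Fin s × ↥(mons N d)
  let A₀ := MvPolynomial Idx (ULift.{u} ℤ)
  let M₀ : Matrix (Fin r) (Fin s) (MvPolynomial (Fin N) A₀) := Matrix.of fun i j =>
    ∑ μ : ↥(mons N d), MvPolynomial.monomial μ.1 (MvPolynomial.X (i, j, μ) : A₀)
  let P : ℕ → ∀ (k : Type u) [Field k], (A₀ →+* k) → Prop := fun R k _ χ =>
    ∀ y : Vec N s k, (M₀.map (MvPolynomial.map χ)).mulVec y = 0 →
      y ∈ Submodule.span (MvPolynomial (Fin N) k)
        {v | (M₀.map (MvPolynomial.map χ)).mulVec v = 0 ∧ ∀ i, (v i).totalDegree ≤ R}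
  have : IsNoetherianRing (ULift.{u} ℤ) := isNoetherianRing_of_ringEquiv ℤ ULift.ringEquiv.symm
  obtain ⟨R, hR⟩ := exists_bound (A₀ := A₀) P
    (fun R R' hle k _ χ h y hy => Submodule.span_mono (fun v hv => by exact ⟨hv.1, fun i => (hv.2 i).trans hle⟩) (h y hy))
    (fun Q _ => by
      obtain ⟨a, ha, R, hR⟩ := exists_kernel_generic (A₀ ⧸ Q) (M₀.map (MvPolynomial.map (Ideal.Quotient.mk Q)))
      refine ⟨a, ha, R, fun k _ χ hχ y hy => ?_⟩
      have e : (M₀.map (MvPolynomial.map (Ideal.Quotient.mk Q))).map (MvPolynomial.map χ) =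
          M₀.map (MvPolynomial.map (χ.comp (Ideal.Quotient.mk Q))) := by
        ext i j : 1
        simp only [Matrix.map_apply, MvPolynomial.map_map]
      have h := hR k χ hχ y (by rw [e]; exact hy)
      rw [e] at h
      exact h)
  refine ⟨R, fun k _ M hM y hy => ?_⟩
  let χ : A₀ →+* k := MvPolynomial.eval₂Hom ((Int.castRingHom k).comp ULift.ringEquiv.toRingHom)
    fun t : Idx => (M t.1 t.2.1).coeff t.2.2.1
  have hMχ : M₀.map (MvPolynomial.map χ) = M := by
    ext i j : 1
    rw [Matrix.map_apply]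
    simp only [M₀, Matrix.of_apply, map_sum, MvPolynomial.map_monomial, χ]
    conv_rhs => rw [eq_sum_mons (hM i j)]
    rw [Finset.sum_congr rfl fun μ _ => congrArg (MvPolynomial.monomial μ.1) (MvPolynomial.eval₂_X _ _ _)]
    exact Finset.sum_coe_sort (mons N d) fun μ => MvPolynomial.monomial μ ((M i j).coeff μ)
  have := hR k χ y (by rw [hMχ]; exact hy)
  rwa [hMχ] at this

end Groth.Agent.Lib.RadBound
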