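import Groth.Agent.Lib.RadBound.Kernel
import Groth.Agent.Lib.RadBound.Extend
import Groth.Agent.H56.NearGeneric.GeomReduced
import Groth.Agent.H52.FBase.PurInsepRed

/-!
# Uniform degree bounds for generators of radicals
-/

set_option autoImplicit false
universe u

open MvPolynomial TensorProduct

namespace Groth.Agent.Lib.RadBound

section Coord

variable {N : ℕ} {k F : Type u} [Field k] [Field F] [Algebra k F] {r : ℕ}
  (w : Module.Basis (Fin r) k F)

/-- Coefficientwise coordinate of a polynomial. -/
noncomputable def coord (l : Fin r) (p : MvPolynomial (Fin N) F) : MvPolynomial (Fin N) k :=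
  ∑ μ ∈ p.support, monomial μ (w.repr (p.coeff μ) l)

theorem coeff_coord (l : Fin r) (p : MvPolynomial (Fin N) F) (μ : Fin N →₀ ℕ) :
    (coord w l p).coeff μ = w.repr (p.coeff μ) l := by
  classical
  rw [coord, coeff_sum]
  simp only [coeff_monomial]
  rw [Finset.sum_ite_eq']
  split_ifs with h
  · rfl
  · rw [notMem_support_iff.1 h, map_zero]; rfl

theorem totalDegree_coord_le (l : Fin r) (p : MvPolynomial (Fin N) F) :
    (coord w l p).totalDegree ≤ p.totalDegree :=
  totalDegree_finsetSum_le fun μ hμ => (totalDegree_monomial_le μ _).trans (le_totalDegree hμ)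

theorem coord_add (l : Fin r) (p q : MvPolynomial (Fin N) F) :
    coord w l (p + q) = coord w l p + coord w l q := by
  ext μ; simp [coeff_coord]

/-- Coordinates as an additive homomorphism. -/
noncomputable def coordHom (l : Fin r) : MvPolynomial (Fin N) F →+ MvPolynomial (Fin N) k :=
  AddMonoidHom.mk' (coord w l) (coord_add w l)

theorem coord_map_mul (l : Fin r) (x : MvPolynomial (Fin N) k) (p : MvPolynomial (Fin N) F) :
    coord w l (MvPolynomial.map (algebraMap k F) x * p) = x * coord w l p := by
  classical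
  ext μ
  rw [coeff_coord, coeff_mul, coeff_mul, map_sum, Finsupp.finsetSum_apply]
  refine Finset.sum_congr rfl fun ij _ => ?_
  rw [coeff_map, ← Algebra.smul_def, map_smul, Finsupp.smul_apply, smul_eq_mul, coeff_coord]

theorem sum_coord (p : MvPolynomial (Fin N) F) :
    p = ∑ l, C (w l) * MvPolynomial.map (algebraMap k F) (coord w l p) := by
  ext μ
  rw [coeff_sum]
  simp only [coeff_C_mul, coeff_map, coeff_coord]
  conv_lhs => rw [← w.sum_repr (p.coeff μ)]
  exact Finset.sum_congr rfl fun l _ => by rw [Algebra.smul_def, mul_comm]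

include w

/-- A member of the `k`-ideal generated by `G`, detected after extending the field. -/
theorem mem_span_of_map_mem {ι : Type} [Fintype ι] (G : ι → MvPolynomial (Fin N) k)
    {x : MvPolynomial (Fin N) k}
    (hx : MvPolynomial.map (algebraMap k F) x ∈
      Ideal.span (Set.range fun i => MvPolynomial.map (algebraMap k F) (G i))) :
    x ∈ Ideal.span (Set.range G) := by
  obtain ⟨h, hh⟩ := Ideal.mem_span_range_iff_exists_fun.1 hx
  obtain ⟨l, hl⟩ : ∃ l, w.repr 1 l ≠ 0 := by
    by_contra hc
    push Not at hc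
    exact one_ne_zero (w.repr.injective ((Finsupp.ext fun l => hc l).trans (map_zero w.repr).symm))
  have h1 : x * C (w.repr 1 l) ∈ Ideal.span (Set.range G) := by
    have e1 : coord w l (1 : MvPolynomial (Fin N) F) = C (w.repr 1 l) := by
      classical
      ext μ
      rw [coeff_coord, coeff_C, coeff_one]
      split_ifs <;> simp
    have e2 := coord_map_mul w l x 1
    rw [mul_one, e1, ← hh] at e2
    rw [← e2]
    show coordHom w l _ ∈ _
    rw [map_sum]
    refine Ideal.sum_mem _ fun i _ => ?_
    show coord w l (h i * _) ∈ _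
    rw [mul_comm, coord_map_mul]
    exact Ideal.mul_mem_right _ _ (Ideal.subset_span ⟨i, rfl⟩)
  have h2 := Ideal.mul_mem_right (C (w.repr 1 l)⁻¹) _ h1
  rwa [mul_assoc, ← C_mul, mul_inv_cancel₀ hl, C_1, mul_one] at h2

/-- Descent of radical generators from an extension of degree `r`. -/
theorem radical_le_of_extension {D σ R₁ R : ℕ} (G : Fin D → MvPolynomial (Fin N) k)
    (g : Fin σ → MvPolynomial (Fin N) F) (hg : ∀ s, (g s).totalDegree ≤ R₁)
    (hJ : Ideal.span (Set.range g) =
      (Ideal.span (Set.range fun i => MvPolynomial.map (algebraMap k F) (G i))).radical)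
    (hR : ∀ (M : Matrix (Fin r) (Fin (r * σ + 1)) (MvPolynomial (Fin N) k)),
      (∀ i j, (M i j).totalDegree ≤ R₁) → ∀ y : Vec N (r * σ + 1) k, M.mulVec y = 0 →
        y ∈ Submodule.span (MvPolynomial (Fin N) k) {v | M.mulVec v = 0 ∧ ∀ i, (v i).totalDegree ≤ R}) :
    (Ideal.span (Set.range G)).radical ≤
      Ideal.span {q | q ∈ (Ideal.span (Set.range G)).radical ∧ q.totalDegree ≤ R} := by
  classical
  intro x hx
  let e : Fin (r * σ + 1) ≃ Option (Fin r × Fin σ) :=
    (finSuccEquiv (r * σ)).trans (Equiv.optionCongr finProdFinEquiv.symm)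
  let col : Option (Fin r × Fin σ) → MvPolynomial (Fin N) F := fun c =>
    c.elim 1 fun p => -(C (w p.1) * g p.2)
  let M : Matrix (Fin r) (Fin (r * σ + 1)) (MvPolynomial (Fin N) k) :=
    Matrix.of fun l j => coord w l (col (e j))
  have hM : ∀ i j, (M i j).totalDegree ≤ R₁ := fun i j => by
    refine (totalDegree_coord_le w i _).trans ?_
    rcases e j with _ | p
    · simp [col]
    · simp only [col, Option.elim_some, totalDegree_neg]
      exact (totalDegree_mul _ _).trans (by simpa using hg p.2)
  -- meaning of the kernel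
  have hmul : ∀ (v : Vec N (r * σ + 1) k) (l : Fin r), (M.mulVec v) l =
      coord w l (∑ c, MvPolynomial.map (algebraMap k F) (v (e.symm c)) * col c) := by
    intro v l
    show ∑ j, M l j * v j = coordHom w l _
    rw [map_sum, ← e.sum_comp]
    refine Finset.sum_congr rfl fun j _ => ?_
    show _ = coord w l _
    rw [e.symm_apply_apply, coord_map_mul, mul_comm]
    rfl
  have hker : ∀ v : Vec N (r * σ + 1) k, M.mulVec v = 0 ↔
      MvPolynomial.map (algebraMap k F) (v (e.symm none)) =
        ∑ p : Fin r × Fin σ, MvPolynomial.map (algebraMap k F) (v (e.symm (some p))) * (C (w p.1) * g p.2) := by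
    intro v
    have key : (∑ c, MvPolynomial.map (algebraMap k F) (v (e.symm c)) * col c) =
        MvPolynomial.map (algebraMap k F) (v (e.symm none)) -
          ∑ p : Fin r × Fin σ, MvPolynomial.map (algebraMap k F) (v (e.symm (some p))) * (C (w p.1) * g p.2) := by
      rw [Fintype.sum_option]
      simp [col, Finset.sum_neg_distrib, sub_eq_add_neg]
    rw [← sub_eq_zero (b := ∑ p : Fin r × Fin σ, _), ← key]
    constructor
    · intro h
      rw [sum_coord w (∑ c, _)]
      refine Finset.sum_eq_zero fun l _ => ?_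
      rw [← hmul, h, Pi.zero_apply, map_zero, mul_zero]
    · intro h
      funext l
      rw [hmul, h, Pi.zero_apply]
      exact map_zero (coordHom w l)
  -- elements of the kernel give elements of the radical
  have hmem : ∀ v : Vec N (r * σ + 1) k, M.mulVec v = 0 →
      v (e.symm none) ∈ (Ideal.span (Set.range G)).radical := by
    intro v hv
    have h := (hker v).1 hv
    have hin : MvPolynomial.map (algebraMap k F) (v (e.symm none)) ∈
        (Ideal.span (Set.range fun i => MvPolynomial.map (algebraMap k F) (G i))).radical := by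
      rw [← hJ, h]
      exact Ideal.sum_mem _ fun p _ => Ideal.mul_mem_left _ _ (Ideal.mul_mem_left _ _ (Ideal.subset_span ⟨p.2, rfl⟩))
    obtain ⟨n, hn⟩ := hin
    rw [← map_pow] at hn
    exact ⟨n, mem_span_of_map_mem w G hn⟩
  -- the given element
  have hxF : MvPolynomial.map (algebraMap k F) x ∈ Ideal.span (Set.range g) := by
    rw [hJ]
    obtain ⟨n, hn⟩ := hx
    refine ⟨n, ?_⟩
    rw [← map_pow]
    have := Ideal.mem_map_of_mem (MvPolynomial.map (algebraMap k F)) hn
    rwa [Ideal.map_span, ← Set.range_comp] at this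
  obtain ⟨h, hh⟩ := Ideal.mem_span_range_iff_exists_fun.1 hxF
  let y : Vec N (r * σ + 1) k := fun j => (e j).elim x fun p => coord w p.1 (h p.2)
  have hy : M.mulVec y = 0 := by
    rw [hker]
    simp only [y, Equiv.apply_symm_apply, Option.elim_none, Option.elim_some]
    rw [← hh, Fintype.sum_prod_type, Finset.sum_comm]
    refine Finset.sum_congr rfl fun s _ => ?_
    conv_lhs => rw [sum_coord w (h s), Finset.sum_mul]
    exact Finset.sum_congr rfl fun l _ => by ring
  have hspan := hR M hM y hy
  have hx' : x = (LinearMap.proj (e.symm none) : Vec N (r * σ + 1) k →ₗ[MvPolynomial (Fin N) k] _) y := by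
    simp [y]
  rw [hx']
  refine (Submodule.span_le (p := Submodule.comap
    (LinearMap.proj (e.symm none) : Vec N (r * σ + 1) k →ₗ[MvPolynomial (Fin N) k] _)
    (Ideal.span {q | q ∈ (Ideal.span (Set.range G)).radical ∧ q.totalDegree ≤ R}))).2 ?_ hspan
  intro v hv
  exact Ideal.subset_span ⟨hmem v hv.1, hv.2 _⟩

end Coord

/-- Comparing `F ⊗ (A'[T]/J)` with `F[T]/JF`. -/
theorem isReduced_tensor_iff {N : ℕ} {A' F : Type u} [CommRing A'] [Field F] [Algebra A' F]
    (J : Ideal (MvPolynomial (Fin N) A')) :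
    _root_.IsReduced (F ⊗[A'] (MvPolynomial (Fin N) A' ⧸ J)) ↔
      (J.map (MvPolynomial.map (algebraMap A' F))).IsRadical := by
  let ψ : MvPolynomial (Fin N) F →ₐ[F] F ⊗[A'] (MvPolynomial (Fin N) A' ⧸ J) :=
    MvPolynomial.aeval fun i => (1 : F) ⊗ₜ[A'] (Ideal.Quotient.mk J (X i) : (MvPolynomial (Fin N) A' ⧸ J))
  have hψ : ∀ p, ψ (MvPolynomial.map (algebraMap A' F) p) = (1 : F) ⊗ₜ[A'] (Ideal.Quotient.mk J p : (MvPolynomial (Fin N) A' ⧸ J)) := fun p => by
    have h : ψ.toRingHom.comp (MvPolynomial.map (algebraMap A' F)) =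
        (Algebra.TensorProduct.includeRight : (MvPolynomial (Fin N) A' ⧸ J) →ₐ[A'] F ⊗[A'] (MvPolynomial (Fin N) A' ⧸ J)).toRingHom.comp (Ideal.Quotient.mk J) := by
      refine MvPolynomial.ringHom_ext (fun a => ?_) fun i => ?_
      · show ψ (MvPolynomial.map (algebraMap A' F) (C a)) = (1 : F) ⊗ₜ[A'] (algebraMap A' (MvPolynomial (Fin N) A' ⧸ J) a)
        rw [MvPolynomial.map_C, ← MvPolynomial.algebraMap_eq, AlgHom.commutes,
          Algebra.TensorProduct.algebraMap_apply]
        exact Algebra.TensorProduct.tmul_one_eq_one_tmul a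
      · show ψ (MvPolynomial.map (algebraMap A' F) (X i)) = _
        rw [MvPolynomial.map_X, MvPolynomial.aeval_X]
        rfl
    exact RingHom.congr_fun h p
  let JF := J.map (MvPolynomial.map (algebraMap A' F))
  let ρ : F ⊗[A'] (MvPolynomial (Fin N) A' ⧸ J) →ₐ[A'] MvPolynomial (Fin N) F ⧸ JF :=
    Algebra.TensorProduct.lift (IsScalarTower.toAlgHom A' F _)
      (Ideal.Quotient.liftₐ J ((Ideal.Quotient.mkₐ A' JF).comp
        (MvPolynomial.mapAlgHom (Algebra.ofId A' F))) fun a ha =>
        Ideal.Quotient.eq_zero_iff_mem.2 (Ideal.mem_map_of_mem _ ha)) fun _ _ => .all ..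
  have hρψ : ∀ p, ρ (ψ p) = Ideal.Quotient.mk JF p := by
    intro p
    induction p using MvPolynomial.induction_on with
    | C a =>
      rw [← MvPolynomial.algebraMap_eq, AlgHom.commutes, Algebra.TensorProduct.algebraMap_apply,
        Algebra.TensorProduct.lift_tmul, map_one, mul_one]
      rfl
    | add p q hp hq => rw [map_add, map_add, hp, hq, map_add]
    | mul_X p i hp =>
      rw [map_mul, map_mul, hp, MvPolynomial.aeval_X, Algebra.TensorProduct.lift_tmul, map_one, one_mul,
        map_mul]
      congr 1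
      show Ideal.Quotient.mk JF (MvPolynomial.map (algebraMap A' F) (X i)) = _
      rw [MvPolynomial.map_X]
  have hsurj : Function.Surjective ψ := by
    intro y
    induction y using TensorProduct.induction_on with
    | zero => exact ⟨0, map_zero _⟩
    | add a b ha hb =>
      obtain ⟨p, rfl⟩ := ha
      obtain ⟨q, rfl⟩ := hb
      exact ⟨p + q, map_add _ _ _⟩
    | tmul c b =>
      obtain ⟨p, rfl⟩ := Ideal.Quotient.mk_surjective b
      refine ⟨C c * MvPolynomial.map (algebraMap A' F) p, ?_⟩
      rw [map_mul, hψ, ← MvPolynomial.algebraMap_eq, AlgHom.commutes,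
        Algebra.TensorProduct.algebraMap_apply, Algebra.TensorProduct.tmul_mul_tmul, one_mul]
      simp
  have hkill : ∀ p ∈ JF, ψ p = 0 := fun p hp => by
    refine (Ideal.map_le_iff_le_comap.2 fun a ha => ?_ : JF ≤ RingHom.ker ψ.toRingHom) hp
    show ψ (MvPolynomial.map (algebraMap A' F) a) = 0
    rw [hψ, Ideal.Quotient.eq_zero_iff_mem.2 ha, TensorProduct.tmul_zero]
  constructor
  · intro hred p ⟨n, hn⟩
    have h0 : ψ p = 0 := hred.eq_zero _ ⟨n, (ψ.toRingHom.map_pow p n).symm.trans (hkill _ hn)⟩
    have := hρψ p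
    rw [h0, map_zero] at this
    exact Ideal.Quotient.eq_zero_iff_mem.1 this.symm
  · intro hrad
    refine ⟨fun y hy => ?_⟩
    obtain ⟨p, rfl⟩ := hsurj y
    obtain ⟨n, hn⟩ := hy
    refine hkill p (hrad ⟨n, ?_⟩)
    have := hρψ (p ^ n)
    rw [show ψ (p ^ n) = 0 from (ψ.toRingHom.map_pow p n).trans hn, map_zero] at this
    exact Ideal.Quotient.eq_zero_iff_mem.1 this.symm

/-- A fibre which is reduced over a perfect field spreads out to an open set of parameters. -/
theorem exists_isReduced_of_perfect (A' : Type u) (K P B : Type u) [CommRing A'] [IsDomain A'] [Field K]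
    [Field P] [PerfectField P] [Algebra A' K] [IsFractionRing A' K] [Algebra A' P] [Algebra K P]
    [IsScalarTower A' K P] [CommRing B] [Algebra A' B] [Algebra.FiniteType A' B]
    [_root_.IsReduced (P ⊗[A'] B)] :
    ∃ b : A', b ≠ 0 ∧ ∀ (L : Type u) [Field L] [Algebra A' L], algebraMap A' L b ≠ 0 →
      _root_.IsReduced (L ⊗[A'] B) := by
  have : _root_.IsReduced (P ⊗[K] (K ⊗[A'] B)) :=
    isReduced_of_injective (Algebra.TensorProduct.cancelBaseChange A' K P P B).toAlgHom
      (Algebra.TensorProduct.cancelBaseChange A' K P P B).injective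
  have : Algebra.IsGeometricallyReduced K (K ⊗[A'] B) :=
    H52.FBase.PurInsepRed.isGeometricallyReduced_descend (P := P)
  exact H56.NearGeneric.exists_isReduced_alg (A := A') (K := K) (B := B)

set_option maxHeartbeats 1000000 in
set_option synthInstance.maxHeartbeats 200000 in
/-- Over the generic points of the parameters, radicals are generated in bounded degree after an
extension of bounded degree. -/
theorem exists_radical_generic {N D : ℕ} (A : Type u) [CommRing A] [IsDomain A] [IsNoetherianRing A]
    (G : Fin D → MvPolynomial (Fin N) A) :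
    ∃ a : A, a ≠ 0 ∧ ∃ R : ℕ, ∀ (k : Type u) [Field k] (χ : A →+* k), χ a ≠ 0 →
      (Ideal.span (Set.range fun j => MvPolynomial.map χ (G j))).radical ≤
        Ideal.span {q | q ∈ (Ideal.span (Set.range fun j => MvPolynomial.map χ (G j))).radical ∧
          q.totalDegree ≤ R} := by
  classical
  let K := FractionRing A
  let P := AlgebraicClosure K
  let ιP : A →+* P := algebraMap A P
  let GP : Fin D → MvPolynomial (Fin N) P := fun j => MvPolynomial.map ιP (G j)
  obtain ⟨σ, g, hg⟩ : ∃ (σ : ℕ) (g : Fin σ → MvPolynomial (Fin N) P),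
      Ideal.span (Set.range g) = (Ideal.span (Set.range GP)).radical :=
    Submodule.fg_iff_exists_fin_generating_family.1 (IsNoetherian.noetherian _)
  have hgrad : ∀ s, g s ∈ (Ideal.span (Set.range GP)).radical := fun s => hg ▸ Ideal.subset_span ⟨s, rfl⟩
  choose ex hex using hgrad
  choose h hh using fun s => Ideal.mem_span_range_iff_exists_fun.1 (hex s)
  have hGg : ∀ j, GP j ∈ Ideal.span (Set.range g) := fun j => hg ▸ Ideal.le_radical (Ideal.subset_span ⟨j, rfl⟩)
  choose h' hh' using fun j => Ideal.mem_span_range_iff_exists_fun.1 (hGg j)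
  -- the coefficients used
  let T : Finset P := (Finset.univ.biUnion fun s => (g s).coeffs) ∪
    ((Finset.univ.biUnion fun s => Finset.univ.biUnion fun j => (h s j).coeffs) ∪
      Finset.univ.biUnion fun j => Finset.univ.biUnion fun s => (h' j s).coeffs)
  have halg : ∀ t : P, ∃ c : A, c ≠ 0 ∧ IsIntegral A (c • t) := fun t =>
    IsAlgebraic.exists_integral_multiple ((IsFractionRing.isAlgebraic_iff A K P).2 (Algebra.IsAlgebraic.isAlgebraic t))
  choose c hc hct using halg
  let a := ∏ t ∈ T, c t
  have ha : a ≠ 0 := Finset.prod_ne_zero_iff.2 fun t _ => hc t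
  let A₁ := Localization.Away a
  have : IsDomain A₁ := IsLocalization.isDomain_localization (powers_le_nonZeroDivisors_of_noZeroDivisors ha)
  have hPinj : Function.Injective ιP := by
    rw [show ιP = (algebraMap K P).comp (algebraMap A K) from IsScalarTower.algebraMap_eq A K P]
    exact (algebraMap K P).injective.comp (IsFractionRing.injective A K)
  have hua : IsUnit (ιP a) := isUnit_iff_ne_zero.2 fun e => ha (hPinj (e.trans (map_zero _).symm))
  let : Algebra A₁ P := (IsLocalization.Away.lift (S := A₁) a hua).toAlgebra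
  have : IsScalarTower A A₁ P :=
    IsScalarTower.of_algebraMap_eq fun x => (IsLocalization.Away.lift_eq (S := A₁) a hua x).symm
  have hint : ∀ t ∈ T, IsIntegral A₁ t := fun t ht => by
    have h1 : IsIntegral A₁ (c t • t) := (hct t).tower_top
    have hu : IsUnit (algebraMap A A₁ (c t)) := by
      refine isUnit_of_dvd_unit (map_dvd _ (Finset.dvd_prod_of_mem c ht)) (IsLocalization.Away.algebraMap_isUnit a)
    obtain ⟨u, hu⟩ := hu.exists_left_inv
    have h2 := h1.smul u
    rwa [← algebraMap_smul A₁ (c t), smul_smul, hu, one_smul] at h2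
  obtain ⟨A', _, _, _, _, _, hfin', hA'P, hTA'⟩ : ∃ (A' : Type u) (_ : CommRing A') (_ : IsDomain A')
      (_ : Algebra A₁ A') (_ : Algebra A' P) (_ : IsScalarTower A₁ A' P),
      Module.Finite A₁ A' ∧ Function.Injective (algebraMap A' P) ∧ ∀ t ∈ T, t ∈ Set.range (algebraMap A' P) :=
    ⟨Algebra.adjoin A₁ (T : Set P), inferInstance, inferInstance, inferInstance, inferInstance, inferInstance,
      Module.Finite.iff_fg.2 (fg_adjoin_of_finite T.finite_toSet hint), Subtype.val_injective,
      fun t ht => ⟨⟨t, Algebra.subset_adjoin ht⟩, rfl⟩⟩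
  have : Algebra.IsIntegral A₁ A' := Algebra.IsIntegral.of_finite A₁ A'
  obtain ⟨nr, mv, hmv⟩ := Module.Finite.exists_fin (R := A₁) (M := A')
  have hA'inj : Function.Injective (algebraMap A₁ A') := by
    have hA₁P : Function.Injective (algebraMap A₁ P) := by
      refine (injective_iff_map_eq_zero _).2 fun x hx => ?_
      obtain ⟨n, c, hc⟩ := IsLocalization.Away.surj a x
      have h2 := congrArg (algebraMap A₁ P) hc
      rw [map_mul, hx, zero_mul, ← IsScalarTower.algebraMap_apply] at h2
      rw [hPinj (h2.symm.trans (map_zero ιP).symm), map_zero] at hc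
      exact ((IsLocalization.Away.algebraMap_isUnit a).pow n).mul_left_eq_zero.1 hc
    exact fun x y e => hA₁P (by rw [IsScalarTower.algebraMap_apply A₁ A' P, e, ← IsScalarTower.algebraMap_apply])
  -- lift the polynomials
  have hlift : ∀ p : MvPolynomial (Fin N) P, p.coeffs ⊆ T →
      ∃ q : MvPolynomial (Fin N) A', MvPolynomial.map (algebraMap A' P) q = p ∧ q.totalDegree = p.totalDegree := by
    intro p hp
    have hm : p ∈ Set.range (MvPolynomial.map (algebraMap A' P)) :=
      MvPolynomial.mem_range_map_iff_coeffs_subset.2 fun x hx =>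
        hTA' x (hp hx)
    obtain ⟨q, rfl⟩ := hm
    exact ⟨q, rfl, by rw [totalDegree, totalDegree, support_map_of_injective _ hA'P]⟩
  have hTg : ∀ s, (g s).coeffs ⊆ T := fun s =>
    (Finset.subset_biUnion_of_mem (fun s => (g s).coeffs) (Finset.mem_univ s)).trans Finset.subset_union_left
  have hTh : ∀ s j, (h s j).coeffs ⊆ T := fun s j x hx => Finset.mem_union_right _ (Finset.mem_union_left _
    (Finset.mem_biUnion.2 ⟨s, Finset.mem_univ _, Finset.mem_biUnion.2 ⟨j, Finset.mem_univ _, hx⟩⟩))
  have hTh' : ∀ j s, (h' j s).coeffs ⊆ T := fun j s x hx => Finset.mem_union_right _ (Finset.mem_union_right _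
    (Finset.mem_biUnion.2 ⟨j, Finset.mem_univ _, Finset.mem_biUnion.2 ⟨s, Finset.mem_univ _, hx⟩⟩))
  choose g₁ hg₁ _hg₁d using fun s => hlift (g s) (hTg s)
  choose h₁ hh₁ _hh₁d using fun s j => hlift (h s j) (hTh s j)
  choose h₁' hh₁' _hh₁'d using fun j s => hlift (h' j s) (hTh' j s)
  let ι' : A →+* A' := (algebraMap A₁ A').comp (algebraMap A A₁)
  let G' : Fin D → MvPolynomial (Fin N) A' := fun j => MvPolynomial.map ι' (G j)
  have hmapinj : Function.Injective (MvPolynomial.map (σ := Fin N) (algebraMap A' P)) :=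
    MvPolynomial.map_injective _ hA'P
  have hι' : (algebraMap A' P).comp ι' = ιP := RingHom.ext fun x => by
    show algebraMap A' P (algebraMap A₁ A' (algebraMap A A₁ x)) = ιP x
    rw [← IsScalarTower.algebraMap_apply A₁ A' P, ← IsScalarTower.algebraMap_apply A A₁ P]
  have hG' : ∀ j, MvPolynomial.map (algebraMap A' P) (G' j) = GP j := fun j => by
    simp only [G', GP, MvPolynomial.map_map, hι']
  have hcert : ∀ s, (g₁ s) ^ ex s = ∑ j, h₁ s j * G' j := fun s => hmapinj (by
    simp only [map_pow, map_sum, map_mul, hg₁, hh₁, hG']; exact (hh s).symm)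
  have hcert' : ∀ j, G' j = ∑ s, h₁' j s * g₁ s := fun j => hmapinj (by
    simp only [map_sum, map_mul, hg₁, hh₁', hG']; exact (hh' j).symm)
  -- the generic fibre
  let J := Ideal.span (Set.range g₁)
  let k' := FractionRing A'
  let : Algebra k' P := (IsFractionRing.lift (g := (algebraMap A' P)) hA'P).toAlgebra
  have : IsScalarTower A' k' P := IsScalarTower.of_algebraMap_eq fun x =>
    (IsFractionRing.lift_algebraMap (g := (algebraMap A' P)) hA'P x).symm
  let B := MvPolynomial (Fin N) A' ⧸ J
  have hredP : _root_.IsReduced (P ⊗[A'] B) := by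
    refine (isReduced_tensor_iff J).2 ?_
    rw [Ideal.map_span, ← Set.range_comp]
    have : (MvPolynomial.map (algebraMap A' P)) ∘ g₁ = g := funext hg₁
    rw [this, hg]
    exact Ideal.radical_isRadical _
  obtain ⟨b, hb, hbred⟩ := exists_isReduced_of_perfect A' k' P B
  obtain ⟨a₁, ha₁, hab⟩ := (Algebra.IsIntegral.isIntegral (R := A₁) b).isAlgebraic.exists_nonzero_dvd
    (mem_nonZeroDivisors_of_ne_zero hb)
  obtain ⟨n₀, c₀, hc₀⟩ := IsLocalization.Away.surj a a₁
  have hc0 : c₀ ≠ 0 := fun e => by
    rw [e, map_zero] at hc₀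
    exact ha₁ (((IsLocalization.Away.algebraMap_isUnit a).pow n₀).mul_left_eq_zero.1 hc₀)
  let R₁ := Finset.univ.sup fun s => (g₁ s).totalDegree
  choose Rk hRk using fun r' : ℕ => exists_kernel_bound.{u} N r' (r' * σ + 1) R₁
  refine ⟨a * c₀, mul_ne_zero ha hc0, (Finset.range (nr + 1)).sup Rk, fun k _ χ hχ => ?_⟩
  rw [map_mul, mul_ne_zero_iff] at hχ
  let χ₁ : A₁ →+* k := IsLocalization.Away.lift (S := A₁) a (isUnit_iff_ne_zero.2 hχ.1)
  have hχ₁ : ∀ x, χ₁ (algebraMap A A₁ x) = χ x := fun x => IsLocalization.Away.lift_eq _ _ x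
  obtain ⟨F, ψ, hFfin, hFr, hψ⟩ := exists_extension_finite hA'inj mv hmv χ₁
  let : Algebra A' F := ψ.toAlgebra
  have hψι : ψ.comp ι' = (algebraMap k F).comp χ := RingHom.ext fun x => by
    show ψ (algebraMap A₁ A' (algebraMap A A₁ x)) = algebraMap k F (χ x)
    rw [hψ, hχ₁]
  have hb0 : algebraMap A' F b ≠ 0 := by
    intro e
    obtain ⟨q, hq⟩ := hab
    have : ψ (algebraMap A₁ A' a₁) = 0 := by
      rw [hq, map_mul, show ψ b = 0 from e, zero_mul]
    rw [hψ, map_eq_zero] at this
    have h2 := congrArg χ₁ hc₀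
    rw [map_mul, this, zero_mul, hχ₁] at h2
    exact hχ.2 h2.symm
  have hradF := (isReduced_tensor_iff J).1 (hbred F hb0)
  let gF : Fin σ → MvPolynomial (Fin N) F := fun s => MvPolynomial.map ψ (g₁ s)
  let Gk : Fin D → MvPolynomial (Fin N) k := fun j => MvPolynomial.map χ (G j)
  have hGF : ∀ j, MvPolynomial.map (algebraMap k F) (Gk j) = MvPolynomial.map ψ (G' j) := fun j => by
    simp only [Gk, G', MvPolynomial.map_map, hψι]
  have hJF : Ideal.span (Set.range gF) =
      (Ideal.span (Set.range fun j => MvPolynomial.map (algebraMap k F) (Gk j))).radical := by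
    refine le_antisymm (Ideal.span_le.2 ?_) ?_
    · rintro _ ⟨s, rfl⟩
      refine ⟨ex s, ?_⟩
      rw [show gF s = MvPolynomial.map ψ (g₁ s) from rfl, ← map_pow, hcert, map_sum]
      refine Ideal.sum_mem _ fun j _ => ?_
      rw [map_mul, ← hGF]
      exact Ideal.mul_mem_left _ _ (Ideal.subset_span ⟨j, rfl⟩)
    · have hle : Ideal.span (Set.range fun j => MvPolynomial.map (algebraMap k F) (Gk j)) ≤
          Ideal.span (Set.range gF) := by
        rw [Ideal.span_le]
        rintro _ ⟨j, rfl⟩
        show MvPolynomial.map (algebraMap k F) (Gk j) ∈ _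
        rw [hGF, hcert', map_sum]
        exact Ideal.sum_mem _ fun s _ => by
          rw [map_mul]; exact Ideal.mul_mem_left _ _ (Ideal.subset_span ⟨s, rfl⟩)
      refine (Ideal.radical_mono hle).trans ?_
      have : Ideal.span (Set.range gF) = J.map (MvPolynomial.map (algebraMap A' F)) := by
        rw [Ideal.map_span, ← Set.range_comp]; rfl
      rw [this]
      exact hradF
  have hdeg : ∀ s, (gF s).totalDegree ≤ R₁ := fun s =>
    (totalDegree_map_le ψ (g₁ s)).trans (Finset.le_sup (f := fun s => (g₁ s).totalDegree) (Finset.mem_univ s))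
  refine le_trans (radical_le_of_extension (Module.finBasis k F) Gk gF hdeg hJF
    (hRk (Module.finrank k F) k)) (Ideal.span_mono ?_)
  exact fun q hq => ⟨hq.1, hq.2.trans (Finset.le_sup (Finset.mem_range.2 (Nat.lt_succ_of_le hFr)))⟩

/-- Radicals of ideals generated in degree `≤ m` are generated in bounded degree. -/
theorem exists_radical_bound (N m : ℕ) :
    ∃ R : ℕ, ∀ (k : Type u) [Field k] (S : Set (MvPolynomial (Fin N) k)),
      (∀ p ∈ S, p.totalDegree ≤ m) →
        ∃ S' : Set (MvPolynomial (Fin N) k), (∀ q ∈ S', q.totalDegree ≤ R) ∧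
          Ideal.span S' = (Ideal.span S).radical := by
  classical
  let D := (mons N m).card
  let Idx := Fin D × ↥(mons N m)
  let A₀ := MvPolynomial Idx (ULift.{u} ℤ)
  let G₀ : Fin D → MvPolynomial (Fin N) A₀ := fun j =>
    ∑ μ : ↥(mons N m), MvPolynomial.monomial μ.1 (MvPolynomial.X (j, μ) : A₀)
  let P : ℕ → ∀ (k : Type u) [Field k], (A₀ →+* k) → Prop := fun R k _ χ =>
    (Ideal.span (Set.range fun j => MvPolynomial.map χ (G₀ j))).radical ≤
      Ideal.span {q | q ∈ (Ideal.span (Set.range fun j => MvPolynomial.map χ (G₀ j))).radical ∧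
        q.totalDegree ≤ R}
  have : IsNoetherianRing (ULift.{u} ℤ) := isNoetherianRing_of_ringEquiv ℤ ULift.ringEquiv.symm
  obtain ⟨R, hR⟩ := exists_bound (A₀ := A₀) P
    (fun R R' hle k _ χ h => h.trans (Ideal.span_mono fun q hq => by exact ⟨hq.1, hq.2.trans hle⟩))
    (fun Q _ => by
      obtain ⟨a, ha, R, hR⟩ := exists_radical_generic (A₀ ⧸ Q)
        (fun j => MvPolynomial.map (Ideal.Quotient.mk Q) (G₀ j))
      refine ⟨a, ha, R, fun k _ χ hχ => ?_⟩
      have h := hR k χ hχ
      simp only [MvPolynomial.map_map] at h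
      exact h)
  refine ⟨R, fun k _ S hS => ?_⟩
  let V : Submodule k (MvPolynomial (Fin N) k) := Submodule.span k S
  let mon : Finset (MvPolynomial (Fin N) k) := (mons N m).image fun μ => MvPolynomial.monomial μ (1 : k)
  have hVle : V ≤ Submodule.span k (mon : Set (MvPolynomial (Fin N) k)) := by
    rw [Submodule.span_le]
    intro p hp
    rw [eq_sum_mons (hS p hp)]
    refine Submodule.sum_mem _ fun μ hμ => ?_
    rw [show MvPolynomial.monomial μ (p.coeff μ) = p.coeff μ • MvPolynomial.monomial μ (1 : k) by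
      rw [MvPolynomial.smul_monomial, smul_eq_mul, mul_one]]
    exact Submodule.smul_mem _ _ (Submodule.subset_span (Finset.mem_image_of_mem _ hμ))
  have : Module.Finite k (Submodule.span k (mon : Set (MvPolynomial (Fin N) k))) :=
    Module.Finite.span_of_finite k mon.finite_toSet
  have : Module.Finite k V := Submodule.finiteDimensional_of_le hVle
  have hVr : Module.finrank k V ≤ D :=
    (Submodule.finrank_mono hVle).trans ((finrank_span_finset_le_card mon).trans Finset.card_image_le)
  let b := Module.finBasis k V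
  let g : Fin D → MvPolynomial (Fin N) k := fun i =>
    if h : (i : ℕ) < Module.finrank k V then (b ⟨i, h⟩ : MvPolynomial (Fin N) k) else 0
  have hgV : ∀ i, g i ∈ V := fun i => by
    simp only [g]; split_ifs
    · exact (b _).2
    · exact zero_mem _
  have hVm : V ≤ MvPolynomial.restrictTotalDegree (Fin N) k m := by
    rw [Submodule.span_le]
    exact fun p hp => (MvPolynomial.mem_restrictTotalDegree _ _ p).2 (hS p hp)
  have hgS : Ideal.span (Set.range g) = Ideal.span S := by
    refine le_antisymm (Ideal.span_le.2 ?_) (Ideal.span_le.2 fun p hp => ?_)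
    · rintro _ ⟨i, rfl⟩
      exact (Submodule.span_le.2 (fun p hp => Ideal.subset_span hp) :
        V ≤ (Ideal.span S).restrictScalars k) (hgV i)
    · have := congrArg Subtype.val (b.sum_repr ⟨p, Submodule.subset_span hp⟩)
      simp only [AddSubmonoidClass.coe_finsetSum, SetLike.val_smul] at this
      rw [SetLike.mem_coe, ← this]
      refine Ideal.sum_mem _ fun i _ => ?_
      rw [MvPolynomial.smul_eq_C_mul]
      refine Ideal.mul_mem_left _ _ (Ideal.subset_span ⟨⟨i, i.2.trans_le hVr⟩, ?_⟩)
      simp only [g, dif_pos i.2]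
  let χ : A₀ →+* k := MvPolynomial.eval₂Hom ((Int.castRingHom k).comp ULift.ringEquiv.toRingHom)
    fun t : Idx => (g t.1).coeff t.2.1
  have hGχ : (fun j => MvPolynomial.map χ (G₀ j)) = g := funext fun j => by
    simp only [G₀, map_sum, MvPolynomial.map_monomial, χ]
    conv_rhs => rw [eq_sum_mons ((MvPolynomial.mem_restrictTotalDegree _ _ (g j)).1 (hVm (hgV j)))]
    rw [Finset.sum_congr rfl fun μ _ => congrArg (MvPolynomial.monomial μ.1) (MvPolynomial.eval₂_X _ _ _)]
    exact Finset.sum_coe_sort (mons N m) fun μ => MvPolynomial.monomial μ ((g j).coeff μ)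
  have h : P R k χ := hR k χ
  simp only [P, hGχ, hgS] at h
  exact ⟨_, fun q hq => hq.2, le_antisymm (Ideal.span_le.2 fun q hq => hq.1) h⟩

end Groth.Agent.Lib.RadBound
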